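import Cfsg.Agent.J4Lower.Main

/-!
The exact index of a subgroup of the presented J4 from an upper bound on its index and a bound on
its order.
-/

set_option autoImplicit false

namespace Cfsg.Agent.J4Lower

open Subgroup

/-- A subgroup of index at most `173067389` whose order divides `2 ^ 11 * 244823040` has exactly
that index. -/
theorem index_eq (H : Subgroup Cfsg.Spor.J4) (hcard : Nat.card H ∣ 501397585920)
    (h0 : H.index ≠ 0) (hle : H.index ≤ 173067389) : H.index = 173067389 := by
  have h1 : 173067389 * 11 ∣ H.index * 501397585920 := by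
    refine dvd_trans ?_ (Nat.mul_dvd_mul_left H.index hcard)
    rw [index_mul_card H, show (173067389 : ℕ) * 11 = 29 * 31 * 37 * 43 * 11 ^ 3 by norm_num]
    exact dvd_card
  rw [show (501397585920 : ℕ) = 45581598720 * 11 by norm_num, ← mul_assoc] at h1
  have h2 : 173067389 ∣ H.index * 45581598720 := Nat.dvd_of_mul_dvd_mul_right (by norm_num) h1
  have h3 : 173067389 ∣ H.index := (Nat.Coprime.dvd_mul_right (by norm_num)).1 h2
  exact le_antisymm hle (Nat.le_of_dvd (Nat.pos_of_ne_zero h0) h3)

/-- The order of the presented J4, for a subgroup of that index and of order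
`2 ^ 11 * 244823040`. -/
theorem card_eq (H : Subgroup Cfsg.Spor.J4) (hcard : Nat.card H = 501397585920)
    (h0 : H.index ≠ 0) (hle : H.index ≤ 173067389) :
    Nat.card Cfsg.Spor.J4 = 86775571046077562880 := by
  rw [← index_mul_card H, index_eq H hcard.dvd h0 hle, hcard]

end Cfsg.Agent.J4Lower
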