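import Cfsg.Agent.J4Lower.Data

/-! Generated: kernel checks of words in the representation. -/

set_option autoImplicit false
set_option Elab.async false
set_option maxRecDepth 100000

namespace Cfsg.Agent.J4Lower

open Cfsg.Agent.J4Rep

theorem z_pow_ok : idB mat 112 (powW 11 zW) = true := by decide +kernel

theorem za_ok : idB mat 112 (invW zW ++ invW aW ++ zW ++ aW) = true := by decide +kernel

theorem g29_pow_ok : idB mat 112 (powW 29 g29) = true := by decide +kernel

theorem g31_pow_ok : idB mat 112 (powW 31 g31) = true := by decide +kernel

theorem g37_pow_ok : idB mat 112 (powW 37 g37) = true := by decide +kernel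

theorem g43_pow_ok : idB mat 112 (powW 43 g43) = true := by decide +kernel

end Cfsg.Agent.J4Lower
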