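import Cfsg.Agent.J4Lower.Data

/-! Generated: kernel checks of words in the representation. -/

set_option autoImplicit false
set_option Elab.async false
set_option maxRecDepth 100000

namespace Cfsg.Agent.J4Lower

open Cfsg.Agent.J4Rep

theorem zb_ok : idB mat 112 (invW zW ++ invW bW ++ zW ++ bW) = true := by decide +kernel

theorem ab_ok : idB mat 112 (abW) = true := by decide +kernel

end Cfsg.Agent.J4Lower
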