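import Cfsg.Agent.J4Rep.Data

/-! Generated: words in the generators of the presented J4 used for a lower bound on its order. -/

set_option autoImplicit false
set_option maxRecDepth 100000

namespace Cfsg.Agent.J4Lower

open Cfsg.Spor.J4

/-- The inverse word. -/
def invW (w : List (Gen × Bool)) : List (Gen × Bool) := (w.map fun a => (a.1, !a.2)).reverse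

/-- The power of a word. -/
def powW (n : Nat) (w : List (Gen × Bool)) : List (Gen × Bool) := (List.replicate n w).flatten

/-- Letters from digits. -/
def dec : Nat → Gen × Bool
  | 0 => (.x, true)
  | 1 => (.y, true)
  | 2 => (.y, false)
  | _ => (.t, true)

/-- A word. -/
def zW : List (Gen × Bool) := ([
  3, 1, 0, 1, 3, 0, 1, 3, 1, 0, 1, 3, 0, 1, 3, 1, 0, 1, 3, 0, 1, 3, 1, 0, 1, 3, 0, 1, 3, 1,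
  0, 1, 3, 0, 1, 3, 1, 0, 1, 3, 0, 1] : List Nat).map dec

/-- A word. -/
def aW : List (Gen × Bool) := ([
  0, 2, 0, 1, 0, 2, 0, 1, 0, 2, 3, 1, 0, 1, 0, 2, 0, 2, 3, 1, 3, 1, 0, 2, 0, 1, 0, 1, 3, 1,
  0, 2, 3, 1, 0, 1, 3, 2, 0, 2, 3, 2, 3, 2, 3, 2, 3, 2, 0, 2, 0, 2, 3, 2, 0, 2, 0, 1, 0, 1,
  0, 1, 3, 2, 0, 2, 3, 1, 3, 1, 0, 1, 0, 3, 1, 0, 2, 3, 2, 3, 2, 3, 2, 0, 2, 0, 1, 3, 1, 3,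
  1, 3, 1, 3, 1, 3, 2, 0, 2, 0, 2, 0, 1, 0, 1, 3, 2, 0, 1, 3, 1, 3, 2, 3, 1, 3, 2, 3, 2, 3,
  1, 3, 1, 0, 1, 0, 1, 3, 1, 3, 2, 3, 1, 0, 1, 3, 1, 0, 1, 3, 2, 3, 2, 0, 1, 0, 2, 3, 2, 3,
  2, 0, 2, 0, 1, 0, 1, 0, 1, 3, 2, 0, 1, 0, 2, 3, 2, 3, 2, 3, 1, 0, 1, 0, 1, 3, 2, 3, 1, 0,
  2, 0, 2, 3, 2, 3, 2, 3, 1, 3, 1, 0, 2, 0, 2, 3, 2, 0, 2, 0, 1, 3, 2, 0, 2, 0, 1, 3, 2, 3,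
  2, 0, 1, 0, 2, 3, 2, 0, 2, 3, 2, 0, 2, 0, 2, 3, 2, 0, 2, 3, 1, 3, 1, 3, 2, 0, 1, 0, 1, 3,
  1, 0, 1, 0, 1, 0, 1, 0, 2, 3, 2, 0, 2, 3, 2, 0, 2, 3, 2, 0, 2, 3, 2, 0, 2, 0, 2, 0, 1, 3,
  2, 0, 1, 0, 1, 0, 2, 3, 1, 3, 2, 0, 3, 2, 3, 1, 3, 1, 0, 2, 0, 1, 3, 1, 3, 2, 0, 2, 3, 2,
  0, 2, 3, 1, 3, 2, 3, 2, 0, 2, 0, 2, 3, 2, 3, 1, 3, 1, 3, 2, 3, 1, 3, 2, 3, 2, 0, 1, 3, 2,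
  0, 2, 0, 1, 0, 1, 0, 1, 3, 2, 3, 2, 3, 2, 3, 2, 3, 2, 0, 1, 0, 1, 3, 1, 3, 1, 3, 1, 0, 2,
  3, 0, 2, 0, 2, 3, 2, 3, 1, 0, 1, 3, 2, 0, 2, 0, 2, 0, 1, 0, 1, 3, 1, 0, 1, 0, 1, 3, 1, 3,
  1, 3, 1, 3, 1, 0, 1, 3, 2, 0, 2, 3, 1, 0, 2, 3, 2, 0, 2, 0, 1, 0, 2, 3, 2, 3, 1, 0, 1, 0,
  2, 0, 2, 3, 1, 0, 2, 0, 1, 0, 2, 0, 3, 1, 0, 1, 3, 2, 3, 1, 0, 2, 0, 2, 0, 1, 3, 2, 0, 1,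
  0, 1, 0, 1, 3, 1, 0, 1, 3, 1, 0, 1, 3, 1, 0, 1, 3, 1, 0, 2, 0, 2, 0, 2, 0, 2, 3, 2, 0, 2,
  0, 1, 3, 2, 3, 2, 3, 1, 0, 1, 3, 1, 0, 1, 0, 1, 3, 1, 0, 1, 3, 1, 0, 2, 0, 1, 3, 1, 3, 2,
  0, 1, 0, 1, 3, 2, 0, 1, 0, 1, 3, 1, 0, 1, 0, 2, 3, 2, 3, 1, 3, 1, 3, 1, 0, 1, 0, 2, 3, 1,
  3, 2, 0, 2, 0, 2, 3, 1, 3, 1, 3, 1, 0, 2, 0, 1, 3, 2, 0, 2, 0, 2, 0, 1, 0, 2, 3, 2, 3, 1,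
  0] : List Nat).map dec

/-- A word. -/
def bW : List (Gen × Bool) := ([
  0, 2, 3, 1, 3, 1, 0, 2, 0, 1, 0, 1, 0, 1, 3, 2, 0, 1, 0, 2, 3, 2, 3, 2, 3, 1, 0, 1, 0, 1,
  3, 2, 3, 1, 0, 2, 0, 2, 3, 2, 3, 2, 3, 1, 3, 1, 0, 2, 0, 2, 3, 2, 0, 2, 0, 1, 3, 2, 0, 2,
  0, 1, 3, 2, 3, 2, 0, 1, 0, 2, 3, 2, 0, 2, 3, 2, 0, 2, 0, 2, 3, 2, 0, 2, 3, 1, 3, 1, 3, 2,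
  0, 1, 0, 1, 3, 1, 0, 1, 0, 1, 0, 1, 0, 2, 3, 2, 0, 2, 3, 2, 0, 2, 3, 2, 0, 2, 3, 2, 0, 2,
  0, 2, 0, 1, 3, 2, 0, 1, 0, 1, 0, 2, 3, 1, 3, 2, 0, 2, 3, 2, 3, 2, 3, 2, 3, 2, 3, 1, 0, 2,
  0, 2, 3, 1, 0, 2, 0, 2, 3, 2, 3, 1, 0, 1, 3, 1, 3, 2, 0, 1, 3, 1, 3, 2, 0, 2, 0, 2, 3, 1,
  3, 2, 3, 2, 0, 2, 0, 2, 3, 2, 0, 2, 3, 1, 0, 1, 3, 1, 0, 2, 3, 2, 0, 1, 0, 2, 0, 1, 0, 2,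
  0, 2, 0, 1, 3, 2, 0, 3, 1, 0, 2, 3, 2, 0, 1, 3, 2, 0, 2, 0, 1, 0, 2, 0, 2, 3, 2, 3, 1, 3,
  2, 0, 1, 0, 1, 0, 1, 3, 1, 3, 2, 0, 2, 3, 1, 0, 1, 3, 2, 3, 1, 3, 2, 0, 2, 0, 1, 3, 2, 3,
  1, 3, 2, 3, 2, 0, 2, 3, 1, 3, 2, 3, 2, 0, 1, 0, 1, 3, 0, 2, 3, 1, 0, 1, 3, 2, 3, 1, 0, 2,
  0, 2, 0, 1, 3, 2, 0, 1, 0, 1, 0, 1, 3, 1, 0, 1, 3, 1, 0, 1, 3, 1, 0, 1, 3, 1, 0, 2, 0, 2,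
  0, 2, 0, 2, 3, 2, 0, 2, 0, 1, 3, 2, 3, 2, 3, 1, 0, 1, 3, 1, 0, 1, 0, 1, 3, 1, 0, 1, 3, 1,
  0, 2, 0, 1, 3, 1, 3, 2, 0, 1, 0, 1, 3, 2, 0, 1, 0, 1, 3, 1, 0, 1, 0, 2, 3, 2, 3, 1, 3, 1,
  3, 1, 0, 1, 0, 2, 3, 1, 3, 2, 0, 2, 0, 2, 3, 1, 3, 1, 3, 1, 0, 2, 0, 1, 3, 2, 0, 2, 0, 2,
  0, 1, 0, 2, 3, 2, 3, 1, 0, 3, 2, 0, 2, 0, 1, 3, 1, 3, 2, 3, 1, 0, 1, 3, 1, 3, 2, 3, 1, 3,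
  2, 0, 1, 0, 1, 3, 2, 3, 1, 3, 2, 0, 2, 3, 1, 0, 1, 3, 2, 3, 2, 0, 2, 0, 2, 0, 1, 3, 2, 3,
  1, 3, 1, 0, 1, 0, 2, 0, 1, 0, 1, 3, 2, 0, 1, 3, 1, 0, 2, 3, 0, 1, 3, 2, 0, 1, 0, 1, 0, 2,
  0, 1, 0, 2, 0, 1, 3, 1, 0, 2, 3, 2, 0, 2, 3, 1, 0, 1, 3, 1, 0, 1, 0, 1, 3, 1, 3, 2, 3, 1,
  0, 1, 0, 1, 3, 2, 3, 2, 0, 1, 3, 2, 3, 2, 0, 2, 3, 1, 3, 1, 0, 1, 0, 2, 3, 1, 0, 1, 0, 2,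
  3, 1, 3, 1, 3, 1, 3, 2, 0] : List Nat).map dec

/-- A word. -/
def g29 : List (Gen × Bool) := ([
  0, 1, 0, 1, 3, 2, 3, 2] : List Nat).map dec

/-- A word. -/
def g31 : List (Gen × Bool) := ([
  0, 2, 0, 2, 3, 0, 2] : List Nat).map dec

/-- A word. -/
def g37 : List (Gen × Bool) := ([
  0, 2, 3] : List Nat).map dec

/-- A word. -/
def g43 : List (Gen × Bool) := ([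
  0, 1, 0, 2, 3, 2, 0, 2] : List Nat).map dec

/-- The word expressing `a b = b a z ^ 8`. -/
def abW : List (Gen × Bool) := invW (powW 8 zW) ++ invW aW ++ invW bW ++ aW ++ bW

end Cfsg.Agent.J4Lower
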