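import Mathlib

/-!
A criterion for a divisor `p ^ 3` of the order of a group.
-/

set_option autoImplicit false

namespace Cfsg.Agent.J4Lower

open Subgroup

theorem mem_zpowers_prime {K : Type*} [Group K] {p : ℕ} (hp : p.Prime) {a b : K} (ha : a ^ p = 1)
    (hb : b ^ p = 1) (hba : b ∉ zpowers a) : ∀ x ∈ zpowers a, x ∈ zpowers b → x = 1 := by
  intro x hxa hxb
  by_contra hx
  have hb1 : b ≠ 1 := fun h => hba (h ▸ one_mem _)
  haveI := Fact.mk hp
  have hob : orderOf b = p := orderOf_eq_prime hb hb1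
  have hox : orderOf x = p := by
    obtain ⟨j, rfl⟩ := mem_zpowers_iff.1 hxb
    exact orderOf_eq_prime (by rw [← zpow_natCast, ← zpow_mul, mul_comm, zpow_mul, zpow_natCast, hb,
      one_zpow]) hx
  have hfin : Finite ↥(zpowers b) := Nat.finite_of_card_ne_zero (by
    rw [Nat.card_zpowers, hob]; exact hp.ne_zero)
  have he : zpowers x = zpowers b :=
    eq_of_le_of_card_ge (zpowers_le.2 hxb) (by rw [Nat.card_zpowers, Nat.card_zpowers, hox, hob])
  exact hba ((zpowers_le.2 hxa) (he ▸ mem_zpowers b))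

/-- Two elements of order `p` with commutator a nontrivial central `p`-element give `p ^ 3`. -/
theorem pow_three_dvd {K : Type*} [Group K] [Finite K] (p : ℕ) [Fact p.Prime] (z a b : K) (k : ℕ)
    (hk : ¬ p ∣ k) (hz : z ^ p = 1) (hz1 : z ≠ 1) (ha : a ^ p = 1) (hb : b ^ p = 1)
    (haz : a * z = z * a) (hbz : b * z = z * b) (hab : a * b = b * a * z ^ k) :
    p ^ 3 ∣ Nat.card K := by
  have hp : p.Prime := Fact.out
  let C : Subgroup K := centralizer ({z} : Set K)
  let zC : C := ⟨z, mem_centralizer_singleton_iff.2 rfl⟩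
  let aC : C := ⟨a, mem_centralizer_singleton_iff.2 haz⟩
  let bC : C := ⟨b, mem_centralizer_singleton_iff.2 hbz⟩
  let Z : Subgroup C := zpowers zC
  have hZn : Z.Normal := by
    refine ⟨fun n hn g => ?_⟩
    obtain ⟨j, rfl⟩ := mem_zpowers_iff.1 hn
    have hg : Commute g zC := Subtype.ext (mem_centralizer_singleton_iff.1 g.2)
    rw [(hg.zpow_right j).eq, mul_inv_cancel_right]
    exact zpow_mem (mem_zpowers zC) j
  have hoz : orderOf z = p := orderOf_eq_prime hz hz1
  have hZcard : Nat.card Z = p := by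
    rw [show Z = zpowers zC from rfl, Nat.card_zpowers, ← Subgroup.orderOf_coe]
    exact hoz
  let π : C →* C ⧸ Z := QuotientGroup.mk' Z
  have hzk : z ^ k ≠ 1 := fun h => hk (hoz ▸ orderOf_dvd_of_pow_eq_one h)
  have hπz : π zC = 1 := (QuotientGroup.eq_one_iff _).2 (mem_zpowers zC)
  have hcomm : Commute (π aC) (π bC) := by
    have h : aC * bC = bC * aC * zC ^ k := Subtype.ext (by simpa [aC, bC, zC] using hab)
    show π aC * π bC = π bC * π aC
    rw [← map_mul, h, map_mul, map_pow, hπz, one_pow, mul_one, map_mul]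
  have ha' : π aC ^ p = 1 := by
    rw [← map_pow, show aC ^ p = 1 from Subtype.ext (by simpa [aC] using ha), map_one]
  have hb' : π bC ^ p = 1 := by
    rw [← map_pow, show bC ^ p = 1 from Subtype.ext (by simpa [bC] using hb), map_one]
  have hca : ∀ w : C, w ∈ Z → Commute (w : K) b := by
    intro w hw
    obtain ⟨j, rfl⟩ := mem_zpowers_iff.1 hw
    rw [SubgroupClass.coe_zpow]
    exact ((show Commute z b from hbz.symm)).zpow_left j
  have ha1 : π aC ≠ 1 := by
    intro h
    have h1 : a * b = b * a := hca aC ((QuotientGroup.eq_one_iff _).1 h)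
    rw [h1] at hab
    exact hzk (mul_eq_left.1 hab.symm)
  have hba : π bC ∉ zpowers (π aC) := by
    intro h
    obtain ⟨j, hj⟩ := mem_zpowers_iff.1 h
    rw [← map_zpow] at hj
    obtain ⟨w, hw, hw'⟩ := (QuotientGroup.mk'_eq_mk' Z).1 hj
    have hb2 : b = a ^ j * (w : K) := by
      have := congrArg Subtype.val hw'
      simpa [aC, bC] using this.symm
    have h1 : a * b = b * a := by
      rw [hb2, ← mul_assoc, (Commute.self_zpow a j).eq, mul_assoc, mul_assoc]
      congr 1
      obtain ⟨i, rfl⟩ := mem_zpowers_iff.1 hw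
      rw [SubgroupClass.coe_zpow]
      exact (show Commute a z from haz).zpow_right i
    rw [h1] at hab
    exact hzk (mul_eq_left.1 hab.symm)
  have hdisj := mem_zpowers_prime hp ha' hb' hba
  let f : zpowers (π aC) × zpowers (π bC) →* C ⧸ Z :=
    MonoidHom.noncommCoprod (zpowers (π aC)).subtype (zpowers (π bC)).subtype (fun x y => by
      obtain ⟨i, hi⟩ := mem_zpowers_iff.1 x.2
      obtain ⟨j, hj⟩ := mem_zpowers_iff.1 y.2
      show Commute (x : C ⧸ Z) (y : C ⧸ Z)
      rw [← hi, ← hj]
      exact hcomm.zpow_zpow i j)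
  have hf : Function.Injective f := by
    rw [injective_iff_map_eq_one]
    rintro ⟨x, y⟩ h
    have h' : (x : C ⧸ Z) * (y : C ⧸ Z) = 1 := h
    have hx : (x : C ⧸ Z) ∈ zpowers (π bC) := by
      rw [eq_inv_of_mul_eq_one_left h']
      exact inv_mem y.2
    have hx1 := hdisj _ x.2 hx
    rw [hx1, one_mul] at h'
    exact Prod.ext (Subtype.ext hx1) (Subtype.ext h')
  have hcard : p * p ∣ Nat.card (C ⧸ Z) := by
    have h := Subgroup.card_dvd_of_injective f hf
    have hb1 : π bC ≠ 1 := fun hh => hba (hh ▸ one_mem _)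
    rwa [Nat.card_prod, Nat.card_zpowers, Nat.card_zpowers, orderOf_eq_prime ha' ha1,
      orderOf_eq_prime hb' hb1] at h
  refine dvd_trans ?_ (card_subgroup_dvd_card C)
  rw [card_eq_card_quotient_mul_card_subgroup Z, hZcard, show p ^ 3 = p * p * p by ring]
  exact Nat.mul_dvd_mul_right hcard p

end Cfsg.Agent.J4Lower
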