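import Cfsg.Agent.J4Rep.Main
import Cfsg.Agent.J4Lower.Extra
import Cfsg.Agent.J4Lower.Check0
import Cfsg.Agent.J4Lower.Check1
import Cfsg.Agent.J4Lower.Check2
import Cfsg.Agent.J4Lower.Check3

/-!
# A lower bound on the order of the presented J4

In the representation of dimension 112 there are elements of order 29, 31, 37, 43 and a
nonabelian subgroup of order `11 ^ 3`.
-/

set_option autoImplicit false
set_option maxRecDepth 100000

namespace Cfsg.Agent.J4Lower

open Cfsg.Agent.J4Rep Cfsg.Spor

/-- The image of a word in the presented group. -/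
noncomputable def el (w : List (J4.Gen × Bool)) : Cfsg.Spor.J4 :=
  PresentedGroup.mk (coxRelators J4.edges ∪ {r | r ∈ J4.extra}) (FreeGroup.mk w)

/-- The image of a word in the representation. -/
noncomputable def im (w : List (J4.Gen × Bool)) : rho.range := ⟨rho (el w), ⟨el w, rfl⟩⟩

theorem rho_el (w : List (J4.Gen × Bool)) :
    rho (el w) = (w.map fun a => bif a.2 then genPerm a.1 else (genPerm a.1)⁻¹).prod := by
  show PresentedGroup.toGroup relators_hold (PresentedGroup.mk _ (FreeGroup.mk w)) = _
  exact FreeGroup.lift_mk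

theorem im_append (u v : List (J4.Gen × Bool)) : im (u ++ v) = im u * im v := by
  apply Subtype.ext
  show rho (el (u ++ v)) = rho (el u) * rho (el v)
  rw [rho_el, rho_el, rho_el, List.map_append, List.prod_append]

theorem im_nil : im [] = 1 := Subtype.ext (by show rho (el []) = 1; rw [rho_el]; rfl)

theorem im_powW (n : ℕ) (w : List (J4.Gen × Bool)) : im (powW n w) = im w ^ n := by
  induction n with
  | zero => rw [pow_zero]; exact im_nil
  | succ n ih =>
    rw [pow_succ', ← ih, ← im_append]
    rfl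

theorem im_invW (w : List (J4.Gen × Bool)) : im (invW w) = (im w)⁻¹ := by
  apply Subtype.ext
  show rho (el (invW w)) = (rho (el w))⁻¹
  rw [← map_inv]
  congr 1

theorem im_eq_one {w : List (J4.Gen × Bool)} (h : idB mat 112 w = true) : im w = 1 := by
  apply Subtype.ext
  show rho (el w) = 1
  rw [rho_el]
  exact prod_eq_one mat _ letter_apply h

theorem im_ne_one {w : List (J4.Gen × Bool)} {v : Nat} (hv : v < 2 ^ 112)
    (h : Nat.beq (run mat w v) v = false) : im w ≠ 1 := by
  intro he
  have h1 : rho (el w) = 1 := congrArg Subtype.val he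
  have h2 := prod_apply mat (fun a => bif a.2 then genPerm a.1 else (genPerm a.1)⁻¹) letter_apply w
    ⟨v, hv⟩
  rw [← rho_el, h1] at h2
  have h3 : Nat.beq (run mat w v) v = true := Nat.beq_eq.symm ▸ h2.symm
  rw [h] at h3
  exact Bool.noConfusion h3

theorem moves : ([zW, g29, g31, g37, g43].all fun w => !(Nat.beq (run mat w 1) 1)) = true := by
  decide +kernel

theorem im_moves {w : List (J4.Gen × Bool)} (hw : w ∈ [zW, g29, g31, g37, g43]) : im w ≠ 1 := by
  have h := List.all_eq_true.1 moves w hw
  exact im_ne_one (v := 1) (by norm_num) (by simpa using h)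

theorem comm_of {u v : List (J4.Gen × Bool)}
    (h : idB mat 112 (invW u ++ invW v ++ u ++ v) = true) : im u * im v = im v * im u := by
  have h1 := im_eq_one h
  rw [im_append, im_append, im_append, im_invW, im_invW] at h1
  calc im u * im v = im v * im u * ((im u)⁻¹ * (im v)⁻¹ * im u * im v) := by group
    _ = im v * im u := by rw [h1, mul_one]

theorem ab_eq : im aW * im bW = im bW * im aW * im zW ^ 8 := by
  have h1 := im_eq_one ab_ok
  rw [abW, im_append, im_append, im_append, im_append, im_invW, im_invW, im_invW, im_powW] at h1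
  calc im aW * im bW
      = im bW * im aW * im zW ^ 8 *
        ((im zW ^ 8)⁻¹ * (im aW)⁻¹ * (im bW)⁻¹ * im aW * im bW) := by group
    _ = _ := by rw [h1, mul_one]

theorem prime_dvd (p : ℕ) [Fact p.Prime] {w : List (J4.Gen × Bool)}
    (hw : w ∈ [zW, g29, g31, g37, g43]) (h : idB mat 112 (powW p w) = true) :
    p ∣ Nat.card rho.range := by
  rw [← orderOf_eq_prime ((im_powW p w).symm.trans (im_eq_one h)) (im_moves hw)]
  exact orderOf_dvd_natCard _

theorem eleven_cube_dvd : 11 ^ 3 ∣ Nat.card rho.range := by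
  have : Fact (Nat.Prime 11) := ⟨by norm_num⟩
  exact pow_three_dvd 11 (im zW) (im aW) (im bW) 8 (by norm_num)
    ((im_powW 11 zW).symm.trans (im_eq_one z_pow_ok))
    (im_moves (by simp))
    ((im_powW 11 aW).symm.trans (im_eq_one a_pow_ok))
    ((im_powW 11 bW).symm.trans (im_eq_one b_pow_ok))
    (comm_of za_ok).symm (comm_of zb_ok).symm ab_eq

/-- `29 * 31 * 37 * 43 * 11 ^ 3` divides the order of the presented J4. -/
theorem dvd_card : 29 * 31 * 37 * 43 * 11 ^ 3 ∣ Nat.card Cfsg.Spor.J4 := by
  refine dvd_trans ?_ (Subgroup.card_range_dvd rho)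
  have : Fact (Nat.Prime 29) := ⟨by norm_num⟩
  have : Fact (Nat.Prime 31) := ⟨by norm_num⟩
  have : Fact (Nat.Prime 37) := ⟨by norm_num⟩
  have : Fact (Nat.Prime 43) := ⟨by norm_num⟩
  refine Nat.Coprime.mul_dvd_of_dvd_of_dvd (by norm_num) ?_ eleven_cube_dvd
  refine Nat.Coprime.mul_dvd_of_dvd_of_dvd (by norm_num) ?_ (prime_dvd 43 (by simp) g43_pow_ok)
  refine Nat.Coprime.mul_dvd_of_dvd_of_dvd (by norm_num) ?_ (prime_dvd 37 (by simp) g37_pow_ok)
  exact Nat.Coprime.mul_dvd_of_dvd_of_dvd (by norm_num) (prime_dvd 29 (by simp) g29_pow_ok)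
    (prime_dvd 31 (by simp) g31_pow_ok)

end Cfsg.Agent.J4Lower
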